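import Mathlib

/-!
# Integral closure and dense extensions of valuation rings

`A ⊆ A'` valuation rings with fraction fields `K ⊆ K'`, `A'` dominating `A`, `A` dense in `A'`.
* `exists_of_mem_range` : `A' ∩ K = A`.
* `exists_add` : `K' = K + A'`.
* `exists_rep` : every element of `K' ⊗[K] L` is `g + 1 ⊗ y` with `g` a finite sum of
  `a' ⊗ l`, `l` integral over `A`.
* `isIntegral_of_isIntegralElem` : if `1 ⊗ y` is integral over `A'` modulo nilpotents then `y` is
  integral over `A`.
-/

namespace Groth.Agent.H8.ValRingDense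

open TensorProduct Polynomial

section basics

variable (A K A' K' : Type*) [CommRing A] [IsDomain A] [ValuationRing A] [Field K] [Algebra A K]
  [IsFractionRing A K]
  [CommRing A'] [IsDomain A'] [ValuationRing A'] [Field K'] [Algebra A' K'] [IsFractionRing A' K']
  [Algebra A A'] [IsLocalHom (algebraMap A A')]
  [Algebra K K'] [Algebra A K'] [IsScalarTower A A' K'] [IsScalarTower A K K']

theorem algebraMap_comm (a : A) :
    algebraMap K K' (algebraMap A K a) = algebraMap A' K' (algebraMap A A' a) := by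
  rw [← IsScalarTower.algebraMap_apply A K K', ← IsScalarTower.algebraMap_apply A A' K']

/-- `A' ∩ K = A`. -/
theorem exists_of_mem_range (c : K) (hc : ∃ a' : A', algebraMap A' K' a' = algebraMap K K' c) :
    ∃ a : A, algebraMap A K a = c := by
  obtain ⟨a', ha'⟩ := hc
  rcases ValuationRing.isInteger_or_isInteger A c with ⟨a, ha⟩ | ⟨a₀, ha₀⟩
  · exact ⟨a, ha⟩
  · by_cases hc0 : c = 0
    · exact ⟨0, by rw [map_zero, hc0]⟩
    have ha₀' : algebraMap A K a₀ = c⁻¹ := ha₀
    have h1 : algebraMap A' K' (algebraMap A A' a₀ * a') = 1 := by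
      rw [map_mul, ← algebraMap_comm A K A' K', ha₀', ha', ← map_mul, inv_mul_cancel₀ hc0, map_one]
    have h2 : algebraMap A A' a₀ * a' = 1 := by
      apply IsFractionRing.injective A' K'
      rw [h1, map_one]
    have h3 : IsUnit (algebraMap A A' a₀) := IsUnit.of_mul_eq_one _ h2
    have h4 : IsUnit a₀ := isUnit_of_map_unit (algebraMap A A') a₀ h3
    obtain ⟨u, hu⟩ := h4
    refine ⟨((u⁻¹ : Aˣ) : A), ?_⟩
    have h5 : algebraMap A K a₀ * algebraMap A K ((u⁻¹ : Aˣ) : A) = 1 := by
      rw [← map_mul, ← hu, Units.mul_inv, map_one]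
    rw [ha₀'] at h5
    calc algebraMap A K ((u⁻¹ : Aˣ) : A)
        = c * (c⁻¹ * algebraMap A K ((u⁻¹ : Aˣ) : A)) := by
          rw [← mul_assoc, mul_inv_cancel₀ hc0, one_mul]
      _ = c := by rw [h5, mul_one]

/-- `K' = K + A'`. -/
theorem exists_add (hdense : ∀ a' b' : A', b' ≠ 0 → ∃ a : A, b' ∣ a' - algebraMap A A' a)
    (k' : K') : ∃ (k : K) (a' : A'), k' = algebraMap K K' k + algebraMap A' K' a' := by
  rcases ValuationRing.isInteger_or_isInteger A' k' with ⟨a', ha'⟩ | ⟨t', ht'⟩
  · exact ⟨0, a', by rw [map_zero, zero_add]; exact ha'.symm⟩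
  · by_cases hk0 : k' = 0
    · exact ⟨0, 0, by rw [hk0, map_zero, map_zero, add_zero]⟩
    have ht'' : algebraMap A' K' t' = k'⁻¹ := ht'
    have ht0 : t' ≠ 0 := by
      rintro rfl
      rw [map_zero] at ht''
      exact hk0 (inv_eq_zero.mp ht''.symm)
    by_cases htu : IsUnit t'
    · obtain ⟨u, rfl⟩ := htu
      refine ⟨0, ((u⁻¹ : A'ˣ) : A'), ?_⟩
      rw [map_zero, zero_add]
      have h5 : algebraMap A' K' (u : A') * algebraMap A' K' ((u⁻¹ : A'ˣ) : A') = 1 := by
        rw [← map_mul, Units.mul_inv, map_one]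
      rw [ht''] at h5
      calc k' = k' * (k'⁻¹ * algebraMap A' K' ((u⁻¹ : A'ˣ) : A')) := by rw [h5, mul_one]
        _ = algebraMap A' K' ((u⁻¹ : A'ˣ) : A') := by
          rw [← mul_assoc, mul_inv_cancel₀ hk0, one_mul]
    · obtain ⟨t, w', hw'⟩ := hdense t' (t' ^ 2) (pow_ne_zero 2 ht0)
      have hmem : t' * w' ∈ nonunits A' := by
        intro hu
        exact htu (isUnit_of_mul_isUnit_left hu)
      obtain ⟨u, hu⟩ := IsLocalRing.isUnit_one_sub_self_of_mem_nonunits _ hmem
      have htt : algebraMap A A' t = t' * u := by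
        rw [hu]
        linear_combination (-1 : A') * hw'
      have htK : algebraMap K K' (algebraMap A K t) =
          algebraMap A' K' t' * algebraMap A' K' (u : A') := by
        rw [algebraMap_comm A K A' K', htt, map_mul]
      have ht'K : algebraMap A' K' t' ≠ 0 := by rw [ht'']; exact inv_ne_zero hk0
      have huK : algebraMap A' K' (u : A') ≠ 0 := (u.isUnit.map (algebraMap A' K')).ne_zero
      have h5 : algebraMap A' K' (u : A') * algebraMap A' K' ((u⁻¹ : A'ˣ) : A') = 1 := by
        rw [← map_mul, Units.mul_inv, map_one]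
      have hinv : algebraMap A' K' ((u⁻¹ : A'ˣ) : A') = (algebraMap A' K' (u : A'))⁻¹ :=
        eq_inv_of_mul_eq_one_right h5
      have huval : algebraMap A' K' (u : A') =
          1 - algebraMap A' K' t' * algebraMap A' K' w' := by
        rw [hu, map_sub, map_one, map_mul]
      have hk' : k' = (algebraMap A' K' t')⁻¹ := by rw [ht'', inv_inv]
      refine ⟨(algebraMap A K t)⁻¹, -w' * ((u⁻¹ : A'ˣ) : A'), ?_⟩
      rw [map_inv₀, htK, map_mul, map_neg, hinv, hk']
      field_simp
      rw [huval]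
      ring

end basics

section main

variable (A : Type*) {K L A' K' : Type*} [CommRing A] [IsDomain A] [ValuationRing A] [Field K]
  [Algebra A K] [IsFractionRing A K]
  [Field L] [Algebra K L] [FiniteDimensional K L] [Algebra A L] [IsScalarTower A K L]
  [CommRing A'] [IsDomain A'] [ValuationRing A'] [Field K'] [Algebra A' K'] [IsFractionRing A' K']
  [Algebra A A'] [IsLocalHom (algebraMap A A')]
  [Algebra K K'] [Algebra A K'] [IsScalarTower A A' K'] [IsScalarTower A K K']

/-- finite sums of `a' ⊗ l` with `l` integral over `A`. -/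
def Good (t : K' ⊗[K] L) : Prop :=
  ∃ (n : ℕ) (a : Fin n → A') (l : Fin n → L), (∀ i, IsIntegral A (l i)) ∧
    t = ∑ i, algebraMap A' K' (a i) ⊗ₜ[K] l i

theorem good_zero : Good (A' := A') A (0 : K' ⊗[K] L) :=
  ⟨0, Fin.elim0, Fin.elim0, fun i => i.elim0, by simp⟩

theorem good_single (a' : A') (l : L) (hl : IsIntegral A l) :
    Good (A' := A') A (algebraMap A' K' a' ⊗ₜ[K] l) :=
  ⟨1, fun _ => a', fun _ => l, fun _ => hl, by simp⟩

theorem good_add {s t : K' ⊗[K] L} (hs : Good (A' := A') A s) (ht : Good (A' := A') A t) :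
    Good (A' := A') A (s + t) := by
  obtain ⟨n, a, l, hl, rfl⟩ := hs
  obtain ⟨m, b, l', hl', rfl⟩ := ht
  refine ⟨n + m, Fin.append a b, Fin.append l l', ?_, ?_⟩
  · intro i
    refine Fin.addCases (fun i => ?_) (fun j => ?_) i
    · rw [Fin.append_left]; exact hl i
    · rw [Fin.append_right]; exact hl' j
  · rw [Fin.sum_univ_add]
    simp only [Fin.append_left, Fin.append_right]

/-- every element of `K' ⊗ L` is a good element plus `1 ⊗ y`. -/
theorem exists_rep (hdense : ∀ a' b' : A', b' ≠ 0 → ∃ a : A, b' ∣ a' - algebraMap A A' a)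
    (t : K' ⊗[K] L) : ∃ (y : L) (g : K' ⊗[K] L), Good (A' := A') A g ∧ t = g + (1 : K') ⊗ₜ[K] y := by
  induction t using TensorProduct.induction_on with
  | zero => exact ⟨0, 0, good_zero A, by simp⟩
  | add s t hs ht =>
    obtain ⟨y₁, g₁, hg₁, rfl⟩ := hs
    obtain ⟨y₂, g₂, hg₂, rfl⟩ := ht
    refine ⟨y₁ + y₂, g₁ + g₂, good_add A hg₁ hg₂, ?_⟩
    rw [TensorProduct.tmul_add]
    abel
  | tmul k' m =>
    haveI : Algebra.IsAlgebraic A L :=
      (IsFractionRing.comap_isAlgebraic_iff (A := A) (K := K) (C := L)).mpr inferInstance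
    obtain ⟨c, hc0, hcint⟩ :=
      (Algebra.IsAlgebraic.isAlgebraic m : IsAlgebraic A m).exists_integral_multiple
    have hcK : algebraMap A K c ≠ 0 := by
      intro h
      exact hc0 (IsFractionRing.injective A K (by rw [h, map_zero]))
    have hcK' : algebraMap K K' (algebraMap A K c) ≠ 0 := by
      intro h
      exact hcK ((algebraMap K K').injective (by rw [h, map_zero]))
    obtain ⟨k, a', hk⟩ := exists_add A K A' K' hdense (k' * (algebraMap K K' (algebraMap A K c))⁻¹)
    refine ⟨k • (c • m), algebraMap A' K' a' ⊗ₜ[K] (c • m), good_single A a' (c • m) hcint, ?_⟩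
    have h1 : (1 : K') ⊗ₜ[K] (k • (c • m)) = algebraMap K K' k ⊗ₜ[K] (c • m) := by
      rw [← TensorProduct.smul_tmul, Algebra.smul_def, mul_one]
    rw [h1, ← TensorProduct.add_tmul, add_comm, ← hk]
    have h2 : c • m = algebraMap A K c • m := by rw [algebraMap_smul]
    rw [h2, ← TensorProduct.smul_tmul, Algebra.smul_def, mul_comm, mul_assoc,
      inv_mul_cancel₀ hcK', mul_one]

/-- descent of integrality. -/
theorem isIntegral_of_isIntegralElem (y : L)
    (hy : ((Ideal.Quotient.mk (nilradical (K' ⊗[K] L))).comp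
            ((Algebra.TensorProduct.includeLeft : K' →ₐ[K] K' ⊗[K] L).toRingHom.comp
              (algebraMap A' K'))).IsIntegralElem
          (Ideal.Quotient.mk (nilradical (K' ⊗[K] L)) ((1 : K') ⊗ₜ[K] y))) :
    IsIntegral A y := by
  obtain ⟨g, hgm, hg⟩ := hy
  rw [← Polynomial.hom_eval₂, Ideal.Quotient.eq_zero_iff_mem, mem_nilradical] at hg
  obtain ⟨M, hM⟩ := hg
  rw [← Polynomial.eval₂_pow, ← Polynomial.eval₂_map] at hM
  have hι : ((Algebra.TensorProduct.includeLeft : K' →ₐ[K] K' ⊗[K] L).toRingHom) =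
      algebraMap K' (K' ⊗[K] L) := rfl
  rw [hι, ← Polynomial.aeval_def] at hM
  set G : K'[X] := (g ^ M).map (algebraMap A' K') with hG
  have hGm : (g ^ M).Monic := hgm.pow M
  -- minimal polynomial
  have hyint : IsIntegral K y := Algebra.IsIntegral.isIntegral y
  set μ : K[X] := minpoly K y with hμ
  have hμm : μ.Monic := minpoly.monic hyint
  set μ' : K'[X] := μ.map (algebraMap K K') with hμ'
  have hμ'm : μ'.Monic := hμm.map _
  have hdeg : μ'.natDegree = μ.natDegree := hμm.natDegree_map _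
  have hdpos : 0 < μ.natDegree := minpoly.natDegree_pos hyint
  have hμ'1 : μ' ≠ 1 := by
    intro h
    rw [h, natDegree_one] at hdeg
    omega
  -- μ' kills 1 ⊗ y
  have hμ'y : aeval ((1 : K') ⊗ₜ[K] y) μ' = 0 := by
    rw [hμ', Polynomial.aeval_map_algebraMap]
    have h1 : aeval ((1 : K') ⊗ₜ[K] y) μ =
        (Algebra.TensorProduct.includeRight : L →ₐ[K] K' ⊗[K] L) (aeval y μ) := by
      rw [← Polynomial.aeval_algHom_apply]
      rfl
    rw [h1, hμ, minpoly.aeval, map_zero]
  -- remainder vanishes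
  have hrem : G %ₘ μ' = 0 := by
    set r := G %ₘ μ' with hr
    have hr0 : aeval ((1 : K') ⊗ₜ[K] y) r = 0 := by
      rw [hr, Polynomial.aeval_modByMonic_eq_self_of_root hμ'y]
      exact hM
    have hrdeg : r.natDegree < μ.natDegree := by
      rw [← hdeg]
      exact Polynomial.natDegree_modByMonic_lt G hμ'm hμ'1
    rw [Polynomial.aeval_eq_sum_range' hrdeg, ← Fin.sum_univ_eq_sum_range
      (fun i => r.coeff i • ((1 : K') ⊗ₜ[K] y) ^ i)] at hr0
    have hli : LinearIndependent K' (fun i : Fin μ.natDegree => (1 : K') ⊗ₜ[K] (y ^ (i : ℕ))) :=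
      Module.Flat.linearIndependent_one_tmul (S := K') (linearIndependent_pow (K := K) y)
    have hsum : ∑ i : Fin μ.natDegree, r.coeff i • ((1 : K') ⊗ₜ[K] (y ^ (i : ℕ))) = 0 := by
      rw [← hr0]
      refine Finset.sum_congr rfl (fun i _ => ?_)
      rw [Algebra.TensorProduct.tmul_pow, one_pow]
    have hcoef := Fintype.linearIndependent_iff.mp hli (fun i => r.coeff i) hsum
    ext j
    rw [coeff_zero]
    by_cases hj : j < μ.natDegree
    · exact hcoef ⟨j, hj⟩
    · exact coeff_eq_zero_of_natDegree_lt (lt_of_lt_of_le hrdeg (not_lt.mp hj))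
  have hdvd : μ' ∣ G := (Polynomial.modByMonic_eq_zero_iff_dvd hμ'm).mp hrem
  -- Gauss lemma
  obtain ⟨g', hg'⟩ := IsIntegrallyClosed.eq_map_mul_C_of_dvd K' hGm hdvd
  rw [hμ'm.leadingCoeff, C_1, mul_one] at hg'
  -- coefficients of μ lie in A
  have hlifts : μ ∈ Polynomial.lifts (algebraMap A K) := by
    rw [Polynomial.lifts_iff_coeff_lifts]
    intro j
    obtain ⟨a, ha⟩ := exists_of_mem_range A K A' K' (μ.coeff j) ⟨g'.coeff j, by
      rw [← Polynomial.coeff_map, hg', hμ', Polynomial.coeff_map]⟩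
    exact ⟨a, ha⟩
  obtain ⟨q, hqmap, -, hqm⟩ := Polynomial.lifts_and_degree_eq_and_monic hlifts hμm
  refine ⟨q, hqm, ?_⟩
  rw [IsScalarTower.algebraMap_eq A K L, ← Polynomial.eval₂_map, hqmap, ← Polynomial.aeval_def,
    hμ, minpoly.aeval]

end main

end Groth.Agent.H8.ValRingDense
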